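import Mathlib.LinearAlgebra.Dual.Lemmas
import Mathlib.LinearAlgebra.BilinearForm.Orthogonal
import Mathlib.LinearAlgebra.Dimension.RankNullity
import Mathlib.LinearAlgebra.FreeModule.PID
import Mathlib.Algebra.Module.Torsion.Basic
import Mathlib.Algebra.Module.Projective
import Mathlib.LinearAlgebra.Dimension.Localization

/-! Positive definite integral lattices: sublattices and their duals. -/

universe u

namespace GrothLib.LatDual

variable {L : Type u} [AddCommGroup L] [Module.Finite ℤ L] [Module.Free ℤ L]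
  (B : LinearMap.BilinForm ℤ L) (hpos : ∀ x, x ≠ 0 → 0 < B x x)

include hpos

theorem eq_zero_of_self {x : L} (h : B x x = 0) : x = 0 := by
  by_contra hx; exact (hpos x hx).ne' h

/-- Every functional on a sublattice is, up to a nonzero multiple, given by an element of it. -/
theorem exists_smul_eq (A : Submodule ℤ L) (ψ : Module.Dual ℤ A) :
    ∃ (n : ℤ) (a : A), n ≠ 0 ∧ n • ψ = (B a) ∘ₗ A.subtype := by
  let f : A →ₗ[ℤ] Module.Dual ℤ A := (B.compl₂ A.subtype) ∘ₗ A.subtype
  have hf : Function.Injective f := by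
    rw [injective_iff_map_eq_zero]
    exact fun a ha => Subtype.ext (eq_zero_of_self B hpos (LinearMap.congr_fun ha a))
  have hrk : Module.finrank ℤ (Module.Dual ℤ A ⧸ LinearMap.range f) = 0 := by
    have h := Submodule.finrank_quotient_add_finrank (LinearMap.range f)
    have h1 : Module.finrank ℤ (LinearMap.range f) = Module.finrank ℤ A :=
      (LinearEquiv.ofInjective f hf).finrank_eq.symm
    have h2 : Module.finrank ℤ (Module.Dual ℤ A) = Module.finrank ℤ A :=
      ((Module.Free.chooseBasis ℤ A).toDualEquiv).finrank_eq.symm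
    omega
  obtain ⟨n, hn, hn0⟩ := Module.finrank_eq_zero_iff.1 hrk (Submodule.Quotient.mk ψ)
  rw [← Submodule.Quotient.mk_smul, Submodule.Quotient.mk_eq_zero] at hn0
  obtain ⟨a, ha⟩ := hn0
  exact ⟨n, a, hn, ha.symm⟩

/-- The double orthogonal of a saturated sublattice. -/
theorem mem_of_orthogonal (hsymm : B.IsSymm) (A : Submodule ℤ L)
    (htf : ∀ (c : ℤ) (x : L), c ≠ 0 → c • x ∈ A → x ∈ A)
    (z : L) (hz : ∀ b ∈ B.orthogonal A, B z b = 0) : z ∈ A := by
  obtain ⟨n, a, hn, h⟩ := exists_smul_eq B hpos A ((B z) ∘ₗ A.subtype)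
  have hw : n • z - (a : L) ∈ B.orthogonal A := by
    intro m hm
    change B m (n • z - (a : L)) = 0
    have := LinearMap.congr_fun h ⟨m, hm⟩
    simp only [LinearMap.smul_apply, LinearMap.comp_apply, Submodule.coe_subtype] at this
    rw [map_sub, map_smul, hsymm.eq m z, hsymm.eq m (a : L), this, sub_self]
  have h0 : n • z - (a : L) = 0 := eq_zero_of_self B hpos (by
    have h1 : B (n • z - (a : L)) (n • z - (a : L)) =
        n • B z (n • z - (a : L)) - B (a : L) (n • z - (a : L)) := by
      rw [map_sub B, map_smul B, LinearMap.sub_apply, LinearMap.smul_apply]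
    rw [h1, hz _ hw, (hw _ a.2 : B (a : L) (n • z - (a : L)) = 0), smul_zero, sub_zero])
  exact htf n z hn (by rw [sub_eq_zero.1 h0]; exact a.2)

omit hpos in
theorem exists_extension {L : Type u} [AddCommGroup L] [Module.Finite ℤ L] (A : Submodule ℤ L)
    (htf : ∀ (c : ℤ) (x : L), c ≠ 0 → c • x ∈ A → x ∈ A) (ψ : Module.Dual ℤ A) :
    ∃ φ : Module.Dual ℤ L, φ ∘ₗ A.subtype = ψ := by
  have : Module.IsTorsionFree ℤ (L ⧸ A) := by
    refine ⟨fun c hc => ?_⟩
    intro u v huv
    obtain ⟨u, rfl⟩ := A.mkQ_surjective u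
    obtain ⟨v, rfl⟩ := A.mkQ_surjective v
    simp only [← map_smul] at huv
    rw [← sub_eq_zero, ← map_sub, ← smul_sub, Submodule.mkQ_apply, Submodule.Quotient.mk_eq_zero] at huv
    rw [← sub_eq_zero, ← map_sub, Submodule.mkQ_apply, Submodule.Quotient.mk_eq_zero]
    exact htf c _ hc.ne_zero huv
  obtain ⟨s, hs⟩ := Module.projective_lifting_property A.mkQ LinearMap.id A.mkQ_surjective
  let p : L →ₗ[ℤ] A := LinearMap.codRestrict A (LinearMap.id - s ∘ₗ A.mkQ) fun x => by
    have := LinearMap.congr_fun hs (A.mkQ x)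
    rw [← Submodule.Quotient.mk_eq_zero]
    simpa [sub_eq_zero] using this.symm
  refine ⟨ψ ∘ₗ p, LinearMap.ext fun a => congrArg ψ (Subtype.ext ?_)⟩
  have : A.mkQ (a : L) = 0 := (Submodule.Quotient.mk_eq_zero A).2 a.2
  simp [p, this]

end GrothLib.LatDual
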